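import Mathlib.AlgebraicGeometry.AlgClosed.Basic
import Mathlib.AlgebraicGeometry.Morphisms.QuasiFinite
import Mathlib.AlgebraicGeometry.PullbackCarrier
import Mathlib.FieldTheory.IsAlgClosed.AlgebraicClosure

/-!
# Counting the points of the fibres of a base change of a finite morphism by geometric points
-/

set_option autoImplicit false
set_option backward.isDefEq.respectTransparency.types false
universe u

open CategoryTheory CategoryTheory.Limits AlgebraicGeometry

namespace Groth.Agent.H40.DQ

variable {X Y : Scheme.{u}}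

/-- all points of a scheme finite over a field are closed. -/
theorem isClosed_singleton_of_isFinite {k : Type u} [Field k] {T : Scheme.{u}}
    (g : T ⟶ Spec (CommRingCat.of k)) [IsFinite g] (t : T) : IsClosed ({t} : Set T) := by
  have h1 : _root_.IsDiscrete (g ⁻¹' {g t}) := g.isDiscrete_preimage_singleton (g t)
  have h2 : g ⁻¹' {g t} = Set.univ := by
    ext s
    simp only [Set.mem_preimage, Set.mem_singleton_iff, Set.mem_univ, iff_true]
    exact Subsingleton.elim _ _
  rw [h2] at h1
  haveI : DiscreteTopology T := by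
    rw [← isDiscrete_univ_iff]
    exact h1
  exact isClosed_discrete _

/-- the number of points of a scheme finite over an algebraically closed field is bounded by the
number of its rational points. -/
theorem encard_univ_le_sections {k : Type u} [Field k] [IsAlgClosed k] {T : Scheme.{u}}
    (g : T ⟶ Spec (CommRingCat.of k)) [IsFinite g] :
    Set.encard (Set.univ : Set T) ≤
      Set.encard {σ : Spec (CommRingCat.of k) ⟶ T | σ ≫ g = 𝟙 _} := by
  let F : T → (Spec (CommRingCat.of k) ⟶ T) := fun t =>
    pointOfClosedPoint g t (isClosed_singleton_of_isFinite g t)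
  have hF : Function.Injective F := by
    intro t t' h
    have h1 : F t (IsLocalRing.closedPoint k) = t := pointOfClosedPoint_apply g t _ _
    have h2 : F t' (IsLocalRing.closedPoint k) = t' := pointOfClosedPoint_apply g t' _ _
    rw [← h1, ← h2, h]
  have : F '' Set.univ ⊆ {σ : Spec (CommRingCat.of k) ⟶ T | σ ≫ g = 𝟙 _} := by
    rintro _ ⟨t, -, rfl⟩
    exact pointOfClosedPoint_comp g t _
  calc Set.encard (Set.univ : Set T) = Set.encard (F '' Set.univ) := (hF.encard_image _).symm
    _ ≤ _ := Set.encard_le_encard this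

/-- fibres of a base change of a finite morphism have at most as many points as geometric fibres. -/
theorem encard_preimage_le (p : X ⟶ Y) [IsFinite p] (d : ℕ)
    (hfib : ∀ (k : Type u) [Field k] [IsAlgClosed k] (y : Spec (CommRingCat.of k) ⟶ Y),
      Set.encard {x : Spec (CommRingCat.of k) ⟶ X | x ≫ p = y} ≤ d)
    {V : Scheme.{u}} (q : V ⟶ Y) (v : V) :
    Set.encard ((pullback.fst q p) ⁻¹' {v}) ≤ d := by
  let κ := V.residueField v
  let k := AlgebraicClosure κ
  let xb : Spec (CommRingCat.of k) ⟶ V :=
    Spec.map (CommRingCat.ofHom (algebraMap κ k)) ≫ V.fromSpecResidueField v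
  have hxb : Set.range xb = {v} := by
    ext w
    simp only [Set.mem_range, Set.mem_singleton_iff]
    constructor
    · rintro ⟨s, rfl⟩
      change (Spec.map _ ≫ V.fromSpecResidueField v) s = v
      rw [Scheme.Hom.comp_apply, Scheme.fromSpecResidueField_apply]
    · rintro rfl
      refine ⟨IsLocalRing.closedPoint k, ?_⟩
      change (Spec.map _ ≫ V.fromSpecResidueField w) _ = w
      rw [Scheme.Hom.comp_apply, Scheme.fromSpecResidueField_apply]
  let T := pullback xb (pullback.fst q p)
  let g : T ⟶ Spec (CommRingCat.of k) := pullback.fst xb (pullback.fst q p)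
  haveI : IsFinite g := inferInstance
  have hrange : Set.range (pullback.snd xb (pullback.fst q p)) = (pullback.fst q p) ⁻¹' {v} := by
    rw [Scheme.Pullback.range_snd, hxb]
  -- sections of `T` give geometric points of the fibre
  let Φ : (Spec (CommRingCat.of k) ⟶ T) → (Spec (CommRingCat.of k) ⟶ X) := fun σ =>
    σ ≫ pullback.snd xb (pullback.fst q p) ≫ pullback.snd q p
  have hΦ : Set.InjOn Φ {σ : Spec (CommRingCat.of k) ⟶ T | σ ≫ g = 𝟙 _} := by
    intro σ hσ σ' hσ' h
    have hσ1 : σ ≫ g = 𝟙 _ := hσ
    have hσ'1 : σ' ≫ g = 𝟙 _ := hσ'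
    apply pullback.hom_ext
    · exact hσ1.trans hσ'1.symm
    · apply pullback.hom_ext
      · rw [Category.assoc, Category.assoc, ← pullback.condition, reassoc_of% hσ1,
          reassoc_of% hσ'1]
      · simpa only [Category.assoc] using h
  have hΦ' : Φ '' {σ : Spec (CommRingCat.of k) ⟶ T | σ ≫ g = 𝟙 _} ⊆
      {x : Spec (CommRingCat.of k) ⟶ X | x ≫ p = xb ≫ q} := by
    rintro _ ⟨σ, hσ, rfl⟩
    have hσ1 : σ ≫ g = 𝟙 _ := hσ
    change (σ ≫ pullback.snd xb (pullback.fst q p) ≫ pullback.snd q p) ≫ p = xb ≫ q
    rw [Category.assoc, Category.assoc, ← pullback.condition, ← Category.assoc (pullback.snd xb _),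
      ← pullback.condition, Category.assoc, reassoc_of% hσ1]
  calc Set.encard ((pullback.fst q p) ⁻¹' {v})
      = Set.encard (Set.range (pullback.snd xb (pullback.fst q p))) := by rw [hrange]
    _ = Set.encard ((pullback.snd xb (pullback.fst q p)) '' Set.univ) := by rw [Set.image_univ]
    _ ≤ Set.encard (Set.univ : Set T) := Set.encard_image_le _ _
    _ ≤ Set.encard {σ : Spec (CommRingCat.of k) ⟶ T | σ ≫ g = 𝟙 _} := encard_univ_le_sections g
    _ = Set.encard (Φ '' {σ : Spec (CommRingCat.of k) ⟶ T | σ ≫ g = 𝟙 _}) :=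
        (hΦ.encard_image).symm
    _ ≤ Set.encard {x : Spec (CommRingCat.of k) ⟶ X | x ≫ p = xb ≫ q} :=
        Set.encard_le_encard hΦ'
    _ ≤ d := hfib k (xb ≫ q)

end Groth.Agent.H40.DQ
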