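import Groth.Agent.H40.DQ.Rel

/-!
# Effectivity of a descent datum from a quotient of `V` by the associated equivalence relation
-/

set_option autoImplicit false
set_option backward.isDefEq.respectTransparency.types false
universe u

open CategoryTheory CategoryTheory.Limits AlgebraicGeometry

namespace Groth.Agent.H40.DQ

open Desc

variable {X Y : Scheme.{u}} {p : X ⟶ Y}

/-- a morphism of descent data whose underlying morphism is an isomorphism is an isomorphism. -/
theorem nonempty_iso_of_isIso_hom {D D' : Desc.SchDD p} (a : D ⟶ D') [IsIso a.hom] :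
    Nonempty (D' ≅ D) := by
  let b : D' ⟶ D :=
    { hom := inv a.hom
      comm := by
        intro T x₀ x₁ h v w hw
        have hv : v.1 = w.1 ≫ a.hom.left := by
          rw [hw, Category.assoc, ← Over.comp_left, IsIso.inv_hom_id, Over.id_left, Category.comp_id]
        have := a.comm x₀ x₁ h w v hv
        rw [this, Category.assoc, ← Over.comp_left, IsIso.hom_inv_id, Over.id_left, Category.comp_id] }
  refine ⟨⟨b, a, ?_, ?_⟩⟩
  · apply SchDD.hom_ext
    exact IsIso.inv_hom_id a.hom
  · apply SchDD.hom_ext
    exact IsIso.hom_inv_id a.hom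

variable (D : Desc.SchDD p) (M : Over Y) (m : UY D ⟶ M)

theorem theta_aux : D.obj.hom ≫ p = m.left ≫ M.hom := (Over.w m).symm

/-- the comparison morphism `V ⟶ X ×_Y M`. -/
noncomputable def thetaL : D.obj.left ⟶ pullback p M.hom :=
  pullback.lift D.obj.hom m.left (theta_aux D M m)

@[reassoc (attr := simp)]
theorem thetaL_fst : thetaL D M m ≫ pullback.fst p M.hom = D.obj.hom := pullback.lift_fst _ _ _

@[reassoc (attr := simp)]
theorem thetaL_snd : thetaL D M m ≫ pullback.snd p M.hom = m.left := pullback.lift_snd _ _ _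

variable (hpb : IsPullback (tY D).left (sY D).left m.left m.left)

include hpb in
theorem tr_m {T : Scheme.{u}} (v : T ⟶ D.obj.left) (x₁ : T ⟶ X)
    (h : (v ≫ D.obj.hom) ≫ p = x₁ ≫ p) : tr D v x₁ h ≫ m.left = v ≫ m.left := by
  rw [← lift_tmor D v x₁ h, Category.assoc]
  have := hpb.w
  rw [tY_left, sY_left] at this
  rw [this, pullback.lift_fst_assoc]

/-- the comparison morphism as a morphism of descent data. -/
noncomputable def theta : D ⟶ (Desc.toDD p).obj M where
  hom := Over.homMk (thetaL D M m) (thetaL_fst D M m)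
  comm := by
    intro T x₀ x₁ h v w hw
    change (canMap p M x₀ x₁ h w).1 = (D.φ x₀ x₁ h v).1 ≫ thetaL D M m
    rw [canMap_val]
    apply pullback.hom_ext
    · rw [pullback.lift_fst, Category.assoc, thetaL_fst]
      exact ((D.φ x₀ x₁ h v).2).symm
    · rw [pullback.lift_snd, Category.assoc, thetaL_snd, tr_eq_phi, tr_m D M m hpb]
      have hw' : w.1 = v.1 ≫ thetaL D M m := hw
      rw [hw', Category.assoc, thetaL_snd]

include hpb in
theorem mono_thetaL : Mono (thetaL D M m) := by
  constructor
  intro T v₁ v₂ hv
  have e1 : v₁ ≫ D.obj.hom = v₂ ≫ D.obj.hom := by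
    have := congrArg (· ≫ pullback.fst p M.hom) hv
    simpa only [Category.assoc, thetaL_fst] using this
  have e2 : v₁ ≫ m.left = v₂ ≫ m.left := by
    have := congrArg (· ≫ pullback.snd p M.hom) hv
    simpa only [Category.assoc, thetaL_snd] using this
  have hrel : Rel D v₁ v₂ := by
    rw [rel_iff]
    exact ⟨hpb.lift v₁ v₂ e2, hpb.lift_fst _ _ _, hpb.lift_snd _ _ _⟩
  obtain ⟨h1, h2⟩ := hrel
  rw [← h2]
  exact tr_self' D v₂ (v₁ ≫ D.obj.hom) e1 h1

include hpb in
theorem isIso_thetaL [Flat m.left] [Surjective m.left] [QuasiCompact m.left] :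
    IsIso (thetaL D M m) := by
  haveI := mono_thetaL D M m hpb
  let c := pullback.snd m.left (pullback.snd p M.hom)
  let v' := pullback.fst m.left (pullback.snd p M.hom)
  have hc : v' ≫ m.left = c ≫ pullback.snd p M.hom := pullback.condition
  have h : (v' ≫ D.obj.hom) ≫ p = (c ≫ pullback.fst p M.hom) ≫ p := by
    rw [Category.assoc, theta_aux D M m, reassoc_of% hc, Category.assoc, pullback.condition]
  let v'' := tr D v' (c ≫ pullback.fst p M.hom) h
  have hv'' : v'' ≫ thetaL D M m = c := by
    apply pullback.hom_ext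
    · rw [Category.assoc, thetaL_fst]
      exact tr_hom D _ _ _
    · rw [Category.assoc, thetaL_snd, tr_m D M m hpb, hc]
  haveI : QuasiCompact c := inferInstance
  haveI : EffectiveEpi c := inferInstance
  have hdesc : ∀ {Z : Scheme.{u}} (g₁ g₂ : Z ⟶ pullback m.left (pullback.snd p M.hom)),
      g₁ ≫ c = g₂ ≫ c → g₁ ≫ v'' = g₂ ≫ v'' := by
    intro Z g₁ g₂ hg
    rw [← cancel_mono (thetaL D M m), Category.assoc, Category.assoc, hv'', hg]
  let σ := EffectiveEpi.desc c v'' hdesc
  have hσ : c ≫ σ = v'' := EffectiveEpi.fac _ _ _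
  have h1 : σ ≫ thetaL D M m = 𝟙 _ := by
    rw [← cancel_epi c, reassoc_of% hσ, hv'', Category.comp_id]
  have h2 : thetaL D M m ≫ σ = 𝟙 _ := by
    rw [← cancel_mono (thetaL D M m), Category.assoc, h1, Category.comp_id, Category.id_comp]
  exact ⟨σ, h2, h1⟩

include hpb in
/-- a quotient of `V` by the equivalence relation of a descent datum makes it effective. -/
theorem nonempty_iso_of_quotient [Flat m.left] [Surjective m.left] [QuasiCompact m.left] :
    Nonempty ((Desc.toDD p).obj M ≅ D) := by
  haveI := isIso_thetaL D M m hpb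
  haveI : IsIso (theta D M m hpb).hom := by
    have : IsIso ((Over.forget X).map (theta D M m hpb).hom) := by
      change IsIso (thetaL D M m)
      infer_instance
    exact isIso_of_reflects_iso _ (Over.forget X)
  exact nonempty_iso_of_isIso_hom (theta D M m hpb)

/-- effectivity of a descent datum relative to a finite locally free morphism, when the orbits of the
associated equivalence relation lie in affine opens. -/
theorem exists_effective_of_orbits [IsFinite p] [Flat p] [LocallyOfFinitePresentation p]
    (horb : ∀ x : D.obj.left, ∃ W : D.obj.left.Opens, IsAffineOpen W ∧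
      ∀ r : RL D, pullback.fst (D.obj.hom ≫ p) p r = x → tmor D r ∈ W) :
    ∃ W : Over Y, Nonempty ((Desc.toDD p).obj W ≅ D) := by
  haveI : IsFinite (sY D).left := by rw [sY_left]; infer_instance
  haveI : Flat (sY D).left := by rw [sY_left]; infer_instance
  haveI : LocallyOfFinitePresentation (sY D).left := by rw [sY_left]; infer_instance
  obtain ⟨M, m, hm1, hm2, hm3, hm4, hpb, -⟩ :=
    Groth.Agent.H40.GQ.exists_quotient_of_isEqvRel (sY D) (tY D) (isEqvRel D) horb
  haveI := hm1
  haveI := hm2
  haveI := hm4
  haveI : QuasiCompact m.left := inferInstance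
  exact ⟨M, nonempty_iso_of_quotient D M m hpb⟩

end Groth.Agent.H40.DQ
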