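import Groth.Agent.H40.DQ.Tr
import Groth.Agent.H40.GQ.EqvQuot

/-!
# The equivalence relation on `V` attached to a descent datum relative to `p : X ⟶ Y`
-/

set_option autoImplicit false
set_option backward.isDefEq.respectTransparency.types false
universe u

open CategoryTheory CategoryTheory.Limits AlgebraicGeometry

namespace Groth.Agent.H40.DQ

open Desc

variable {X Y : Scheme.{u}} {p : X ⟶ Y} (D : Desc.SchDD p)

/-- `R = V ×_Y X`. -/
noncomputable abbrev RL : Scheme.{u} := pullback (D.obj.hom ≫ p) p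

theorem tmor_aux : (pullback.fst (D.obj.hom ≫ p) p ≫ D.obj.hom) ≫ p = pullback.snd (D.obj.hom ≫ p) p ≫ p := by
  rw [Category.assoc]
  exact pullback.condition

/-- the target map `(v, x₁) ↦ φ(v)` over `x₁`. -/
noncomputable def tmor : RL D ⟶ D.obj.left :=
  tr D (pullback.fst (D.obj.hom ≫ p) p) (pullback.snd (D.obj.hom ≫ p) p) (tmor_aux D)

@[reassoc (attr := simp)]
theorem tmor_hom : tmor D ≫ D.obj.hom = pullback.snd (D.obj.hom ≫ p) p := tr_hom D _ _ _

theorem lift_tmor {T : Scheme.{u}} (v : T ⟶ D.obj.left) (x₁ : T ⟶ X)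
    (h : (v ≫ D.obj.hom) ≫ p = x₁ ≫ p) :
    pullback.lift v x₁ (by rw [← Category.assoc]; exact h) ≫ tmor D = tr D v x₁ h := by
  unfold tmor
  rw [precomp_tr]
  exact tr_congr D (pullback.lift_fst _ _ _) (pullback.lift_snd _ _ _) _ _

theorem comp_tmor {T : Scheme.{u}} (r : T ⟶ RL D) :
    r ≫ tmor D = tr D (r ≫ pullback.fst _ _) (r ≫ pullback.snd _ _) (by
      rw [Category.assoc, Category.assoc, Category.assoc, pullback.condition]) := by
  unfold tmor
  rw [precomp_tr]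

/-- the relation on `T`-points of `V`. -/
def Rel {T : Scheme.{u}} (a b : T ⟶ D.obj.left) : Prop :=
  ∃ h : (b ≫ D.obj.hom) ≫ p = (a ≫ D.obj.hom) ≫ p, tr D b (a ≫ D.obj.hom) h = a

theorem rel_refl {T : Scheme.{u}} (a : T ⟶ D.obj.left) : Rel D a a := ⟨rfl, tr_self D a⟩

theorem rel_symm {T : Scheme.{u}} {a b : T ⟶ D.obj.left} (h : Rel D a b) : Rel D b a := by
  obtain ⟨h1, h2⟩ := h
  refine ⟨h1.symm, ?_⟩
  have h3 : (tr D b (a ≫ D.obj.hom) h1 ≫ D.obj.hom) ≫ p = (b ≫ D.obj.hom) ≫ p := by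
    rw [tr_hom, h1]
  have := tr_tr D b (a ≫ D.obj.hom) (b ≫ D.obj.hom) h1 h3
  rw [tr_self] at this
  refine Eq.trans ?_ this
  exact tr_congr D h2.symm rfl _ _

theorem rel_trans {T : Scheme.{u}} {a b c : T ⟶ D.obj.left} (h : Rel D a b) (h' : Rel D b c) :
    Rel D a c := by
  obtain ⟨h1, h2⟩ := h
  obtain ⟨h1', h2'⟩ := h'
  refine ⟨h1'.trans h1, ?_⟩
  have h3 : (tr D c (b ≫ D.obj.hom) h1' ≫ D.obj.hom) ≫ p = (a ≫ D.obj.hom) ≫ p := by
    rw [tr_hom, h1]
  have := tr_tr D c (b ≫ D.obj.hom) (a ≫ D.obj.hom) h1' h3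
  refine Eq.trans this.symm ?_
  refine Eq.trans ?_ h2
  exact tr_congr D h2' rfl _ _

theorem rel_iff {T : Scheme.{u}} (a b : T ⟶ D.obj.left) :
    Rel D a b ↔ ∃ r : T ⟶ RL D, r ≫ tmor D = a ∧ r ≫ pullback.fst _ _ = b := by
  constructor
  · rintro ⟨h1, h2⟩
    refine ⟨pullback.lift b (a ≫ D.obj.hom) (by rw [← Category.assoc]; exact h1), ?_,
      pullback.lift_fst _ _ _⟩
    rw [lift_tmor D b (a ≫ D.obj.hom) h1, h2]
  · rintro ⟨r, rfl, rfl⟩
    have h0 : ((r ≫ pullback.fst (D.obj.hom ≫ p) p) ≫ D.obj.hom) ≫ p =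
        ((r ≫ tmor D) ≫ D.obj.hom) ≫ p := by
      simp only [Category.assoc, tmor_hom, pullback.condition]
    refine ⟨h0, ?_⟩
    refine Eq.trans ?_ (comp_tmor D r).symm
    refine tr_congr D rfl ?_ _ _
    rw [Category.assoc, tmor_hom]

/-- `V` over `Y`. -/
noncomputable abbrev UY : Over Y := Over.mk (D.obj.hom ≫ p)

/-- `R` over `Y`. -/
noncomputable abbrev RY : Over Y := Over.mk (pullback.fst (D.obj.hom ≫ p) p ≫ D.obj.hom ≫ p)

noncomputable def sY : RY D ⟶ UY D := Over.homMk (pullback.fst (D.obj.hom ≫ p) p) rfl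

noncomputable def tY : RY D ⟶ UY D := Over.homMk (tmor D) (by
  change tmor D ≫ D.obj.hom ≫ p = pullback.fst (D.obj.hom ≫ p) p ≫ D.obj.hom ≫ p
  rw [tmor_hom_assoc, pullback.condition])

@[simp] theorem sY_left : (sY D).left = pullback.fst (D.obj.hom ≫ p) p := rfl

@[simp] theorem tY_left : (tY D).left = tmor D := rfl

theorem isEqvRel : AlgSp.IsEqvRel (sY D) (tY D) where
  injective T r r' ht hs := by
    apply Over.OverMorphism.ext
    have ht' : r.left ≫ tmor D = r'.left ≫ tmor D := congrArg CommaMorphism.left ht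
    have hs' : r.left ≫ pullback.fst (D.obj.hom ≫ p) p = r'.left ≫ pullback.fst (D.obj.hom ≫ p) p :=
      congrArg CommaMorphism.left hs
    apply pullback.hom_ext hs'
    rw [← tmor_hom, reassoc_of% ht']
  equivalence T := by
    have key : ∀ a b : T ⟶ UY D, (∃ r : T ⟶ RY D, r ≫ tY D = a ∧ r ≫ sY D = b) ↔
        Rel D a.left b.left := by
      intro a b
      rw [rel_iff]
      constructor
      · rintro ⟨r, rfl, rfl⟩
        exact ⟨r.left, rfl, rfl⟩
      · rintro ⟨r, h1, h2⟩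
        refine ⟨Over.homMk r ?_, ?_, ?_⟩
        · change r ≫ pullback.fst (D.obj.hom ≫ p) p ≫ D.obj.hom ≫ p = T.hom
          rw [reassoc_of% h2]
          exact Over.w b
        · apply Over.OverMorphism.ext
          exact h1
        · apply Over.OverMorphism.ext
          exact h2
    refine ⟨fun a => (key a a).mpr (rel_refl D _), fun {a b} h => ?_, fun {a b c} h h' => ?_⟩
    · exact (key b a).mpr (rel_symm D ((key a b).mp h))
    · exact (key a c).mpr (rel_trans D ((key a b).mp h) ((key b c).mp h'))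

end Groth.Agent.H40.DQ
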