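import Groth.Prelude.Def_Desc

/-!
# Transport of points along a descent datum (functor-of-points form)
-/

set_option autoImplicit false
set_option backward.isDefEq.respectTransparency.types false
universe u

open CategoryTheory CategoryTheory.Limits AlgebraicGeometry

namespace Groth.Agent.H40.DQ

open Desc

variable {X Y : Scheme.{u}} {p : X ⟶ Y} (D : Desc.SchDD p)

theorem phi_congr {T : Scheme.{u}} {x₀ x₀' x₁ x₁' : T ⟶ X} (e₀ : x₀ = x₀') (e₁ : x₁ = x₁')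
    (h : x₀ ≫ p = x₁ ≫ p) (h' : x₀' ≫ p = x₁' ≫ p) (v : Lifts D.obj x₀) (v' : Lifts D.obj x₀')
    (hv : v.1 = v'.1) : (D.φ x₀ x₁ h v).1 = (D.φ x₀' x₁' h' v').1 := by
  subst e₀ e₁
  have : v = v' := Subtype.ext hv
  subst this
  rfl

/-- transport of a `T`-point `v` of `V` to a point over `x₁`. -/
noncomputable def tr {T : Scheme.{u}} (v : T ⟶ D.obj.left) (x₁ : T ⟶ X)
    (h : (v ≫ D.obj.hom) ≫ p = x₁ ≫ p) : T ⟶ D.obj.left :=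
  (D.φ (v ≫ D.obj.hom) x₁ h ⟨v, rfl⟩).1

@[reassoc (attr := simp)]
theorem tr_hom {T : Scheme.{u}} (v : T ⟶ D.obj.left) (x₁ : T ⟶ X)
    (h : (v ≫ D.obj.hom) ≫ p = x₁ ≫ p) : tr D v x₁ h ≫ D.obj.hom = x₁ :=
  (D.φ (v ≫ D.obj.hom) x₁ h ⟨v, rfl⟩).2

theorem tr_congr {T : Scheme.{u}} {v v' : T ⟶ D.obj.left} {x₁ x₁' : T ⟶ X} (ev : v = v')
    (e₁ : x₁ = x₁') (h : (v ≫ D.obj.hom) ≫ p = x₁ ≫ p) (h' : (v' ≫ D.obj.hom) ≫ p = x₁' ≫ p) :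
    tr D v x₁ h = tr D v' x₁' h' := by
  subst ev e₁
  rfl

theorem tr_eq_phi {T : Scheme.{u}} {x₀ x₁ : T ⟶ X} (h : x₀ ≫ p = x₁ ≫ p) (v : Lifts D.obj x₀) :
    (D.φ x₀ x₁ h v).1 = tr D v.1 x₁ (by rw [v.2]; exact h) := by
  unfold tr
  exact phi_congr D v.2.symm rfl _ _ _ _ rfl

@[simp]
theorem tr_self {T : Scheme.{u}} (v : T ⟶ D.obj.left) : tr D v (v ≫ D.obj.hom) rfl = v :=
  congrArg Subtype.val (D.φ_self (v ≫ D.obj.hom) ⟨v, rfl⟩)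

theorem tr_self' {T : Scheme.{u}} (v : T ⟶ D.obj.left) (x₁ : T ⟶ X) (e : x₁ = v ≫ D.obj.hom)
    (h : (v ≫ D.obj.hom) ≫ p = x₁ ≫ p) : tr D v x₁ h = v := by
  subst e
  exact tr_self D v

theorem tr_tr {T : Scheme.{u}} (v : T ⟶ D.obj.left) (x₁ x₂ : T ⟶ X)
    (h₁ : (v ≫ D.obj.hom) ≫ p = x₁ ≫ p) (h₂ : (tr D v x₁ h₁ ≫ D.obj.hom) ≫ p = x₂ ≫ p) :
    tr D (tr D v x₁ h₁) x₂ h₂ = tr D v x₂ (by rw [h₁, ← h₂, tr_hom]) := by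
  have h₁₂ : x₁ ≫ p = x₂ ≫ p := by rw [← h₂, tr_hom]
  have key := congrArg Subtype.val (D.φ_comp (v ≫ D.obj.hom) x₁ x₂ h₁ h₁₂ ⟨v, rfl⟩)
  refine Eq.trans ?_ key
  unfold tr
  exact phi_congr D (tr_hom D v x₁ h₁) rfl _ _ _ _ rfl

theorem precomp_tr {T T' : Scheme.{u}} (g : T' ⟶ T) (v : T ⟶ D.obj.left) (x₁ : T ⟶ X)
    (h : (v ≫ D.obj.hom) ≫ p = x₁ ≫ p) :
    g ≫ tr D v x₁ h = tr D (g ≫ v) (g ≫ x₁) (by
      simp only [Category.assoc] at h ⊢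
      rw [h]) := by
  have h' : (g ≫ v ≫ D.obj.hom) ≫ p = (g ≫ x₁) ≫ p := by
    simp only [Category.assoc] at h ⊢
    rw [h]
  have key := D.φ_natural g (v ≫ D.obj.hom) x₁ h h' ⟨v, rfl⟩
    ⟨g ≫ v, Category.assoc _ _ _⟩ rfl
  refine Eq.trans key.symm ?_
  unfold tr
  exact phi_congr D (Category.assoc _ _ _).symm rfl _ _ _ _ rfl

end Groth.Agent.H40.DQ
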